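import Cfsg.Agent.Lib.Golay.Systems.OrbitSplit
import Cfsg.Agent.Lib.Golay.Systems.SextetChecks
import Cfsg.Agent.Lib.Golay.Systems.OrbitWalks

/-!
Kernel check of one set of orbit walks.
-/

set_option autoImplicit false
set_option maxRecDepth 20000

namespace CfsgLib.Golay

theorem dpSx_ok_orbits : orbitsOK sextTree dpSxRef dpSxGens
    [(dpSxW2, 294912, 396), (dpSxW0, 37897218, 495), (dpSxW1, 4867200, 880)] = true := by decide +kernel

theorem dpSx_ok : classOK sextTree dpSxRef dpSxGens dpSxW0 37897218 495 = true ∧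
    classOK sextTree dpSxRef dpSxGens dpSxW1 4867200 880 = true ∧
    classOK sextTree dpSxRef dpSxGens dpSxW2 294912 396 = true ∧
    valsOK sextTree dpSxRef [294912, 37897218, 4867200] = true :=
  have h := classOK_of_orbitsOK sextTree_ok dpSx_ok_orbits
  ⟨h.1 (dpSxW0, 37897218, 495) (by simp), h.1 (dpSxW1, 4867200, 880) (by simp), h.1 (dpSxW2, 294912, 396) (by simp), h.2⟩

end CfsgLib.Golay
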