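import Cfsg.Agent.Lib.Golay.Systems.OrbitSplit
import Cfsg.Agent.Lib.Golay.Systems.SextetChecks
import Cfsg.Agent.Lib.Golay.Systems.OrbitWalks

/-!
Kernel check of one set of orbit walks.
-/

set_option autoImplicit false
set_option maxRecDepth 20000

namespace CfsgLib.Golay

theorem octSx_ok_orbits : orbitsOK sextTree octSxRef octSxGens
    [(octSxW0, 67174416, 35), (octSxW2, 66564, 840), (octSxW1, 304704, 896)] = true := by decide +kernel

theorem octSx_ok : classOK sextTree octSxRef octSxGens octSxW0 67174416 35 = true ∧
    classOK sextTree octSxRef octSxGens octSxW1 304704 896 = true ∧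
    classOK sextTree octSxRef octSxGens octSxW2 66564 840 = true ∧
    valsOK sextTree octSxRef [67174416, 66564, 304704] = true :=
  have h := classOK_of_orbitsOK sextTree_ok octSx_ok_orbits
  ⟨h.1 (octSxW0, 67174416, 35) (by simp), h.1 (octSxW1, 304704, 896) (by simp), h.1 (octSxW2, 66564, 840) (by simp), h.2⟩

end CfsgLib.Golay
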