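import Cfsg.Agent.Lib.Golay.Systems.OrbitSplit
import Cfsg.Agent.Lib.Golay.Systems.TrioChecks
import Cfsg.Agent.Lib.Golay.Systems.OrbitWalks

/-!
Kernel check of one set of orbit walks.
-/

set_option autoImplicit false
set_option maxRecDepth 20000

namespace CfsgLib.Golay

theorem sxOct_ok_orbits : orbitsOK octTree sxOctRef sxOctGens
    [(sxOctW2, 33554436, 15), (sxOctW1, 16386, 360), (sxOctW0, 262464, 384)] = true := by decide +kernel

theorem sxOct_ok : classOK octTree sxOctRef sxOctGens sxOctW0 262464 384 = true ∧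
    classOK octTree sxOctRef sxOctGens sxOctW1 16386 360 = true ∧
    classOK octTree sxOctRef sxOctGens sxOctW2 33554436 15 = true ∧
    valsOK octTree sxOctRef [33554436, 16386, 262464] = true :=
  have h := classOK_of_orbitsOK octTree_checks.1 sxOct_ok_orbits
  ⟨h.1 (sxOctW0, 262464, 384) (by simp), h.1 (sxOctW1, 16386, 360) (by simp), h.1 (sxOctW2, 33554436, 15) (by simp), h.2⟩

end CfsgLib.Golay
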