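import Cfsg.Agent.Lib.Golay.Systems.OrbitSplit
import Cfsg.Agent.Lib.Golay.Systems.TrioChecks
import Cfsg.Agent.Lib.Golay.Systems.OrbitWalks

/-!
Kernel check of one set of orbit walks.
-/

set_option autoImplicit false
set_option maxRecDepth 20000

namespace CfsgLib.Golay

theorem sxTr_ok_orbits : orbitsOK trioTree sxTrRef sxTrGens
    [(sxTrW3, 100761624, 15), (sxTrW2, 33653772, 180), (sxTrW1, 99846, 720), (sxTrW0, 568482, 2880)] = true := by decide +kernel

theorem sxTr_ok : classOK trioTree sxTrRef sxTrGens sxTrW0 568482 2880 = true ∧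
    classOK trioTree sxTrRef sxTrGens sxTrW1 99846 720 = true ∧
    classOK trioTree sxTrRef sxTrGens sxTrW2 33653772 180 = true ∧
    classOK trioTree sxTrRef sxTrGens sxTrW3 100761624 15 = true ∧
    valsOK trioTree sxTrRef [100761624, 33653772, 99846, 568482] = true :=
  have h := classOK_of_orbitsOK trioTree_ok sxTr_ok_orbits
  ⟨h.1 (sxTrW0, 568482, 2880) (by simp), h.1 (sxTrW1, 99846, 720) (by simp), h.1 (sxTrW2, 33653772, 180) (by simp), h.1 (sxTrW3, 100761624, 15) (by simp), h.2⟩

end CfsgLib.Golay
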