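import Cfsg.Agent.Lib.Golay.Systems.OrbitSplit
import Cfsg.Agent.Lib.Golay.Systems.TrioChecks
import Cfsg.Agent.Lib.Golay.Systems.OrbitWalks

/-!
Kernel check of one set of orbit walks.
-/

set_option autoImplicit false
set_option maxRecDepth 20000

namespace CfsgLib.Golay

theorem trOct_ok_orbits : orbitsOK octTree trOctRef trOctGens
    [(trOctW2, 281474976710658, 3), (trOctW1, 33554433, 84), (trOctW0, 16785408, 672)] = true := by decide +kernel

theorem trOct_ok : classOK octTree trOctRef trOctGens trOctW0 16785408 672 = true ∧
    classOK octTree trOctRef trOctGens trOctW1 33554433 84 = true ∧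
    classOK octTree trOctRef trOctGens trOctW2 281474976710658 3 = true ∧
    valsOK octTree trOctRef [281474976710658, 33554433, 16785408] = true :=
  have h := classOK_of_orbitsOK octTree_checks.1 trOct_ok_orbits
  ⟨h.1 (trOctW0, 16785408, 672) (by simp), h.1 (trOctW1, 33554433, 84) (by simp), h.1 (trOctW2, 281474976710658, 3) (by simp), h.2⟩

end CfsgLib.Golay
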