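import Cfsg.Agent.Lib.Golay.Systems.OrbitSplit
import Cfsg.Agent.Lib.Golay.Systems.SextetChecks
import Cfsg.Agent.Lib.Golay.Systems.OrbitWalks

/-!
Kernel check of one set of orbit walks.
-/

set_option autoImplicit false
set_option maxRecDepth 20000

namespace CfsgLib.Golay

theorem trSx_ok_orbits : orbitsOK sextTree trSxRef trSxGens
    [(trSxW1, 201523248, 7), (trSxW0, 67307544, 84), (trSxW3, 199692, 336), (trSxW2, 675972, 1344)] = true := by decide +kernel

theorem trSx_ok : classOK sextTree trSxRef trSxGens trSxW0 67307544 84 = true ∧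
    classOK sextTree trSxRef trSxGens trSxW1 201523248 7 = true ∧
    classOK sextTree trSxRef trSxGens trSxW2 675972 1344 = true ∧
    classOK sextTree trSxRef trSxGens trSxW3 199692 336 = true ∧
    valsOK sextTree trSxRef [201523248, 67307544, 199692, 675972] = true :=
  have h := classOK_of_orbitsOK sextTree_ok trSx_ok_orbits
  ⟨h.1 (trSxW0, 67307544, 84) (by simp), h.1 (trSxW1, 201523248, 7) (by simp), h.1 (trSxW2, 675972, 1344) (by simp), h.1 (trSxW3, 199692, 336) (by simp), h.2⟩

end CfsgLib.Golay
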