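import Cfsg.Agent.Lib.Golay.Systems.OrbitSplit
import Cfsg.Agent.Lib.Golay.Systems.SextetChecks
import Cfsg.Agent.Lib.Golay.Systems.OrbitWalks

/-!
Kernel check of one set of orbit walks.
-/

set_option autoImplicit false
set_option maxRecDepth 20000

namespace CfsgLib.Golay

theorem ySx_ok_orbits : orbitsOK sextTree ySxRef ySxGens
    [(ySxW0, 267289, 21), (ySxW1, 5776, 630), (ySxW2, 729, 1120)] = true := by decide +kernel

theorem ySx_ok : classOK sextTree ySxRef ySxGens ySxW0 267289 21 = true ∧
    classOK sextTree ySxRef ySxGens ySxW1 5776 630 = true ∧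
    classOK sextTree ySxRef ySxGens ySxW2 729 1120 = true ∧
    valsOK sextTree ySxRef [267289, 5776, 729] = true :=
  have h := classOK_of_orbitsOK sextTree_ok ySx_ok_orbits
  ⟨h.1 (ySxW0, 267289, 21) (by simp), h.1 (ySxW1, 5776, 630) (by simp), h.1 (ySxW2, 729, 1120) (by simp), h.2⟩

end CfsgLib.Golay
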