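import Cfsg.Agent.Lib.Golay.Systems.OrbitSplit
import Cfsg.Agent.Lib.Golay.Systems.TrioChecks
import Cfsg.Agent.Lib.Golay.Systems.OrbitWalks

/-!
Kernel check of one set of orbit walks.
-/

set_option autoImplicit false
set_option maxRecDepth 20000

namespace CfsgLib.Golay

theorem octTr_ok_orbits : orbitsOK trioTree octTrRef octTrGens
    [(octTrW2, 281475043819524, 15), (octTrW1, 67125249, 420), (octTrW0, 17842176, 3360)] = true := by decide +kernel

theorem octTr_ok : classOK trioTree octTrRef octTrGens octTrW0 17842176 3360 = true ∧
    classOK trioTree octTrRef octTrGens octTrW1 67125249 420 = true ∧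
    classOK trioTree octTrRef octTrGens octTrW2 281475043819524 15 = true ∧
    valsOK trioTree octTrRef [281475043819524, 67125249, 17842176] = true :=
  have h := classOK_of_orbitsOK trioTree_ok octTr_ok_orbits
  ⟨h.1 (octTrW0, 17842176, 3360) (by simp), h.1 (octTrW1, 67125249, 420) (by simp), h.1 (octTrW2, 281475043819524, 15) (by simp), h.2⟩

end CfsgLib.Golay
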